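import Cfsg.Agent.Lib.Linear.Order

/-! Conjugacy classes in GL_2 and SL_2 over a field. -/

set_option autoImplicit false

namespace Cfsg.Agent.Lib.LinTwo

open Matrix

variable {F : Type*} [Field F]

local notation "SL2" => Matrix.SpecialLinearGroup (Fin 2) F

/-- `!![a, b; c, d]` as an element of SL_2. -/
def mk2 (a b c d : F) (h : a * d - b * c = 1) : Matrix.SpecialLinearGroup (Fin 2) F :=
  ⟨!![a, b; c, d], by simp [Matrix.det_fin_two, h]⟩

@[simp] theorem coe_mk2 (a b c d : F) (h : a * d - b * c = 1) :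
    ((mk2 a b c d h : Matrix.SpecialLinearGroup (Fin 2) F) : Matrix (Fin 2) (Fin 2) F) = !![a, b; c, d] := rfl

/-- `!![1, b; 0, 1]`. -/
def unip (b : F) : Matrix.SpecialLinearGroup (Fin 2) F := mk2 1 b 0 1 (by simp)

theorem coe_unip (b : F) :
    ((unip b : Matrix.SpecialLinearGroup (Fin 2) F) : Matrix (Fin 2) (Fin 2) F) = !![1, b; 0, 1] := rfl

theorem eq_unip_iff (g : SL2) (b : F) :
    g = unip b ↔ g 0 0 = 1 ∧ g 0 1 = b ∧ g 1 0 = 0 ∧ g 1 1 = 1 := by
  constructor
  · rintro rfl; exact ⟨rfl, rfl, rfl, rfl⟩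
  · rintro ⟨h1, h2, h3, h4⟩
    apply Subtype.ext
    ext i j
    fin_cases i <;> fin_cases j <;> assumption

theorem unip_conj_iff {b b' : F} (hb : b ≠ 0) (hb' : b' ≠ 0) :
    IsConj (unip b) (unip b') ↔ IsSquare (b * b') := by
  rw [isConj_iff]
  constructor
  · rintro ⟨h, hh⟩
    rw [mul_inv_eq_iff_eq_mul] at hh
    have e := congrArg (fun x : SL2 => (x : Matrix (Fin 2) (Fin 2) F)) hh
    simp only [Matrix.SpecialLinearGroup.coe_mul] at e
    have e00 := congrFun (congrFun e 0) 0
    have e01 := congrFun (congrFun e 0) 1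
    simp [coe_unip, Matrix.mul_apply, Fin.sum_univ_two] at e00 e01
    have hz : (h : Matrix (Fin 2) (Fin 2) F) 1 0 = 0 := by
      rcases e00 with h0 | h0
      · exact absurd h0 hb'
      · exact h0
    have hd := Matrix.det_fin_two (h : Matrix (Fin 2) (Fin 2) F)
    rw [h.2, hz] at hd
    refine ⟨b * (h : Matrix (Fin 2) (Fin 2) F) 0 0, ?_⟩
    have : (h : Matrix (Fin 2) (Fin 2) F) 0 0 * b = b' * (h : Matrix (Fin 2) (Fin 2) F) 1 1 := by
      linear_combination e01
    linear_combination b * b' * hd - b * (h : Matrix (Fin 2) (Fin 2) F) 0 0 * this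
  · rintro ⟨c, hc⟩
    have hc0 : c ≠ 0 := fun h => mul_ne_zero hb hb' (by rw [hc, h, mul_zero])
    refine ⟨mk2 (c / b) 0 0 (b / c) (by field_simp; ring), mul_inv_eq_iff_eq_mul.2 ?_⟩
    apply Subtype.ext
    ext i j
    fin_cases i <;> fin_cases j <;>
      simp [coe_unip, Matrix.mul_apply, Fin.sum_univ_two] <;> field_simp
    linear_combination -hc

/-- Every unipotent element other than `1` is conjugate to some `unip b`. -/
theorem exists_conj_unip (g : SL2) (hg : g ≠ 1)
    (htr : (g : Matrix (Fin 2) (Fin 2) F) 0 0 + (g : Matrix (Fin 2) (Fin 2) F) 1 1 = 2) :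
    ∃ b : F, b ≠ 0 ∧ IsConj (unip b) g := by
  have hd := Matrix.det_fin_two (g : Matrix (Fin 2) (Fin 2) F)
  rw [g.2] at hd
  obtain ⟨a, h00⟩ : ∃ a : F, (g : Matrix (Fin 2) (Fin 2) F) 0 0 = 1 + a :=
    ⟨(g : Matrix (Fin 2) (Fin 2) F) 0 0 - 1, by ring⟩
  set β := (g : Matrix (Fin 2) (Fin 2) F) 0 1 with hβ
  set γ := (g : Matrix (Fin 2) (Fin 2) F) 1 0 with hγ
  have h11 : (g : Matrix (Fin 2) (Fin 2) F) 1 1 = 1 - a := by linear_combination htr - h00
  have hq : a * a + β * γ = 0 := by rw [h00, h11] at hd; linear_combination hd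
  by_cases hb : β = 0
  · have ha0 : a = 0 := by simpa [hb] using hq
    have hc0 : γ ≠ 0 := by
      intro hc
      apply hg
      apply Subtype.ext
      ext i j
      fin_cases i <;> fin_cases j <;> simp
      · rw [h00, ha0, add_zero]
      · exact hb
      · exact hc
      · rw [h11, ha0, sub_zero]
    refine ⟨-γ, neg_ne_zero.2 hc0, isConj_iff.2 ⟨mk2 0 (-1) 1 0 (by ring), mul_inv_eq_iff_eq_mul.2 ?_⟩⟩
    apply Subtype.ext
    ext i j
    fin_cases i <;> fin_cases j <;> simp [coe_unip, Matrix.mul_apply, Fin.sum_univ_two, h00, h11, ha0, hb, ← hβ, ← hγ]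
  · refine ⟨β, hb, isConj_iff.2 ⟨mk2 1 0 (-a / β) 1 (by ring), mul_inv_eq_iff_eq_mul.2 ?_⟩⟩
    apply Subtype.ext
    ext i j
    fin_cases i <;> fin_cases j <;> simp [coe_unip, Matrix.mul_apply, Fin.sum_univ_two, h00, h11, ← hβ, ← hγ] <;>
      field_simp <;> first | ring1 | linear_combination -hq | linear_combination hq

theorem trace_of_conj {g h : SL2} (hc : IsConj g h) :
    (h : Matrix (Fin 2) (Fin 2) F).trace = (g : Matrix (Fin 2) (Fin 2) F).trace := by
  obtain ⟨x, hx⟩ := isConj_iff.1 hc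
  rw [← hx, Matrix.SpecialLinearGroup.coe_mul, Matrix.trace_mul_comm, ← Matrix.SpecialLinearGroup.coe_mul,
    ← mul_assoc, inv_mul_cancel, one_mul]

theorem unip_pow (b : F) (n : ℕ) : unip b ^ n = unip ((n : F) * b) := by
  induction n with
  | zero => simp only [pow_zero, Nat.cast_zero, zero_mul]; rw [eq_unip_iff]; simp
  | succ n ih =>
    rw [pow_succ, ih]
    apply Subtype.ext
    ext i j
    fin_cases i <;> fin_cases j <;> simp [coe_unip, Matrix.mul_apply, Fin.sum_univ_two]
    ring

theorem orderOf_eq_char_iff (p : ℕ) [Fact p.Prime] [CharP F p] (g : SL2) :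
    orderOf g = p ↔ ∃ b : F, b ≠ 0 ∧ IsConj (unip b) g := by
  have hp : p.Prime := Fact.out
  constructor
  · intro hg
    have hg1 : g ≠ 1 := fun h => hp.ne_one (by rw [← hg, h, orderOf_one])
    refine exists_conj_unip g hg1 ?_
    have hn : IsNilpotent ((g : Matrix (Fin 2) (Fin 2) F) - 1) := by
      refine ⟨p, ?_⟩
      rw [sub_pow_char_of_commute p (Commute.one_right _), one_pow,
        ← Matrix.SpecialLinearGroup.coe_pow, ← hg, pow_orderOf_eq_one,
        Matrix.SpecialLinearGroup.coe_one, sub_self]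
    have h2 := Matrix.isNilpotent_trace_of_isNilpotent hn
    rw [isNilpotent_iff_eq_zero, Matrix.trace_sub, Matrix.trace_one, Fintype.card_fin,
      Matrix.trace_fin_two, sub_eq_zero] at h2
    simpa using h2
  · rintro ⟨b, hb, hc⟩
    obtain ⟨x, hx⟩ := isConj_iff.1 hc
    rw [← hx]
    refine (orderOf_injective (MulAut.conj x).toMonoidHom (MulEquiv.injective _) (unip b)).trans ?_
    refine orderOf_eq_prime ?_ ?_
    · rw [unip_pow, CharP.cast_eq_zero, zero_mul]
      symm; rw [eq_unip_iff]; simp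
    · intro h
      have := congrArg (fun x : SL2 => (x : Matrix (Fin 2) (Fin 2) F) 0 1) h
      simp [coe_unip] at this
      exact hb this

/-- The centraliser of `unip b` consists of the `± unip t`. -/
noncomputable def centralizerEquiv {b : F} (hb : b ≠ 0) :
    Subgroup.centralizer ({unip b} : Set SL2) ≃ {a : F // a * a = 1} × F where
  toFun h := (⟨((h : SL2) : Matrix (Fin 2) (Fin 2) F) 0 0, by
    have e := congrArg (fun x : SL2 => (x : Matrix (Fin 2) (Fin 2) F))
      (Subgroup.mem_centralizer_singleton_iff.1 h.2)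
    simp only [Matrix.SpecialLinearGroup.coe_mul] at e
    have e00 := congrFun (congrFun e 0) 0
    have e01 := congrFun (congrFun e 0) 1
    simp [coe_unip, Matrix.mul_apply, Fin.sum_univ_two, hb] at e00 e01
    have hd := Matrix.det_fin_two ((h : SL2) : Matrix (Fin 2) (Fin 2) F)
    rw [(h : SL2).2, e00] at hd
    have h11 : ((h : SL2) : Matrix (Fin 2) (Fin 2) F) 0 0 = ((h : SL2) : Matrix (Fin 2) (Fin 2) F) 1 1 :=
      mul_left_cancel₀ hb (by linear_combination e01)
    rw [← h11] at hd
    linear_combination -hd⟩, ((h : SL2) : Matrix (Fin 2) (Fin 2) F) 0 1)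
  invFun x := ⟨mk2 x.1.1 x.2 0 x.1.1 (by rw [x.1.2]; ring), by
    refine Subgroup.mem_centralizer_singleton_iff.2 ?_
    apply Subtype.ext
    ext i j
    fin_cases i <;> fin_cases j <;> simp [coe_unip, Matrix.mul_apply, Fin.sum_univ_two]
    ring⟩
  left_inv h := by
    have e := congrArg (fun x : SL2 => (x : Matrix (Fin 2) (Fin 2) F))
      (Subgroup.mem_centralizer_singleton_iff.1 h.2)
    simp only [Matrix.SpecialLinearGroup.coe_mul] at e
    have e00 := congrFun (congrFun e 0) 0
    have e01 := congrFun (congrFun e 0) 1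
    simp [coe_unip, Matrix.mul_apply, Fin.sum_univ_two, hb] at e00 e01
    apply Subtype.ext
    apply Subtype.ext
    ext i j
    fin_cases i <;> fin_cases j <;> simp
    · exact e00.symm
    · exact mul_left_cancel₀ hb (by linear_combination e01)
  right_inv x := by simp

theorem card_class_mul (b : F) (hb : b ≠ 0) [Fintype F] :
    Nat.card (ConjClasses.mk (unip b)).carrier * (Nat.card {a : F // a * a = 1} * Fintype.card F) =
      Fintype.card F * (Fintype.card F - 1) * (Fintype.card F + 1) := by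
  classical
  have h1 : Nat.card (ConjClasses.mk (unip b)).carrier =
      (Subgroup.centralizer ({unip b} : Set SL2)).index := by
    rw [← ConjAct.orbit_eq_carrier_conjClasses, Nat.card_coe_set_eq, ← MulAction.index_stabilizer,
      ConjAct.stabilizer_eq_centralizer]
    rfl
  rw [h1, ← Cfsg.Agent.Lib.Linear.card_SL_two (F := F),
    ← Subgroup.index_mul_card (Subgroup.centralizer ({unip b} : Set SL2)),
    Nat.card_congr (centralizerEquiv hb), Nat.card_prod, Nat.card_eq_fintype_card (α := F)]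

end Cfsg.Agent.Lib.LinTwo
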